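import Cfsg.Agent.Mrg.Omega.NO3S.TwoOne.LThreeC
import Cfsg.Agent.Mrg.Omega.NO3S.TwoOne.DRel
import Cfsg.Agent.Mrg.Omega.NO3S.TwoOne.LocA


/-!
# NO-3S, `q = 2`, `n = 1`, no `λ`-transvections (helper409's text #19417, (0.6), (0.7)): pairs of lines on `z`

`h : One T V z`, `L` another line on `z`, `y ∈ V`, `q ∈ L`, `q ∉ E_z(V)`, `y ∉ E_z(L)` (an `S`-pair).

* `One.kappa` : for `w ∈ W_y` and `e ∈ E_q(L)` which moves `y` and commutes with `q^w`, `[w, w^e]` lies in `I_V ∩ I_L`;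
* `One.alpha_pair` (0.6) : `1 ≠ u ≠ z`, `u ∈ I_V ∩ I_L` imply `[q, q'] ∈ ⟨z⟩`, `q' ∈ W_y` over the class of `q`;
* `One.m_kappa`, `One.m_alpha_pair` : the same in `M`, for all pairs of line vectors.
-/

set_option autoImplicit false
set_option linter.unusedSectionVars false

namespace Cfsg.Agent.Omega.NO3S.TwoOne

open Subgroup Cfsg Cfsg.Agent.ZN Cfsg.Agent.MinSimple.Geo Cfsg.Agent.Omega.CaseL
open Cfsg.Agent.Omega.NO3S.Fit
open Cfsg.Agent.ZN.Block (conj_mem_of_normalizer conj_mem_of_normalizer' le_normalizer_of_forall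
  mem_normalizer_of)
open scoped commutatorElement

universe u

variable {G : Type u} [Group G]

namespace One

variable {T V L : Subgroup G} {z y q e w : G}

/-- **(0.7)** `[w, w^e] ∈ I_V ∩ I_L` -/
theorem kappa [Finite G] (h : One T V z) (hL : L ∈ lines V z) (hy : y ∈ V) (hy1 : y ≠ 1)
    (hyz : y ≠ z) (hq : q ∈ L) (hq1 : q ≠ 1) (hqz : q ≠ z) (he : e ∈ ee L q) (ey : e * y * e⁻¹ = z * y)
    (hw : w ∈ ws V y) (hew : e * (w * q * w⁻¹) = w * q * w⁻¹ * e) :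
    ⁅w, e * w * e⁻¹⁆ ∈ ii V ∧ ⁅w, e * w * e⁻¹⁆ ∈ ii L := by
  have hz := h.ln.z_mem
  have hz1 := h.ln.z_ne
  obtain ⟨-, -, T', h'⟩ := h.of_line hL hz1
  have hzL := h'.ln.z_mem
  have hs : z * y ∈ V := mul_mem hz hy
  have hs1 : z * y ≠ 1 := h.mul_ne_one hy (Ne.symm hyz)
  have hww : w * w = 1 := h.sq hy hy1 w hw
  have hwi : w⁻¹ = w := inv_eq_self hww
  have hee : e * e = 1 := h'.sq hq hq1 e he.1
  have hei : e⁻¹ = e := inv_eq_self hee
  -- `f = e^w` centralises `q`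
  have h5 : (w * e * w⁻¹) * q = q * (w * e * w⁻¹) := by
    have e1 : w * (e * (w * q * w⁻¹)) * w⁻¹ = w * (w * q * w⁻¹ * e) * w⁻¹ := by rw [hew]
    have e2 : w * (e * (w * q * w⁻¹)) * w⁻¹ = (w * e * w⁻¹) * ((w * w) * q * (w * w)⁻¹) := by group
    have e3 : w * (w * q * w⁻¹ * e) * w⁻¹ = ((w * w) * q * (w * w)⁻¹) * (w * e * w⁻¹) := by group
    rw [e2, e3, hww] at e1
    simpa using e1
  have es : e * w * e⁻¹ ∈ ws V (z * y) := by
    have := conj_mem_ws e hw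
    rwa [ey] at this
  have eq : ⁅w, e * w * e⁻¹⁆ = ⁅w * e * w⁻¹, e⁆ := by
    have hss : (e * w * e⁻¹)⁻¹ = e * w * e⁻¹ := inv_eq_self (h.sq hs hs1 _ es)
    simp only [commutatorElement_def]
    calc w * (e * w * e⁻¹) * w⁻¹ * (e * w * e⁻¹)⁻¹ = w * (e * w * e⁻¹) * w⁻¹ * (e * w * e⁻¹) := by rw [hss]
      _ = (w * e * w) * e⁻¹ * w⁻¹ * (e * w * e⁻¹) := by group
      _ = (w * e * w⁻¹) * e * (w * e⁻¹ * w⁻¹) * e⁻¹ := by rw [hwi, hei]; group
      _ = w * e * w⁻¹ * e * (w * e * w⁻¹)⁻¹ * e⁻¹ := by group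
  have hi : ⁅w, e * w * e⁻¹⁆ ∈ ii V := h.comm_ii_mem hy hy1 hs hs1 hw es
  refine ⟨hi, h'.mem_ii hzL hz1 hq hq1 hqz ?_ ?_⟩
  · rw [ws_of_lines hL]; exact hi z hz hz1
  · rw [eq, commutatorElement_def]
    have h6 := conj_mem_ws (V := L) (w * e * w⁻¹) he.1
    rw [conj_eq_of_comm h5] at h6
    exact mul_mem h6 (inv_mem he.1)

/-- `[w, w^e] = β(a, a)` modulo `V` -/
theorem kappa_beta [Finite G] (h : One T V z) (hy : y ∈ V) (hy1 : y ≠ 1) (hyz : y ≠ z) (he : e ∈ kq V z)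
    (ey : e * y * e⁻¹ = z * y) (hw : w ∈ ws V y) {w' : G} (hw' : w' ∈ ws V z) (htw : Tw V y w z w') :
    ⁅w, e * w * e⁻¹⁆ * ⁅w, w'⁆⁻¹ ∈ V := by
  have hz := h.ln.z_mem
  have hz1 := h.ln.z_ne
  have hs : z * y ∈ V := mul_mem hz hy
  have hs1 : z * y ≠ 1 := h.mul_ne_one hy (Ne.symm hyz)
  have hsy : z * y ≠ y := fun e' => hz1 (by simpa using e')
  have es : e * w * e⁻¹ ∈ ws V (z * y) := by
    have := conj_mem_ws e hw
    rwa [ey] at this
  have t1 : Tw V y w (z * y) (e * w * e⁻¹) := by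
    have := h.tw_conj (kq_le_xl hz hz1 he) y w
    rwa [ey] at this
  have t2 : Tw V (z * y) (e * w * e⁻¹) z w' := h.tw_trans (h.tw_symm t1) htw
  have t3 : Tw V y w y w := (h.tw_self hy hy1 hw).mpr (by rw [mul_inv_cancel]; exact one_mem _)
  exact h.beta_tw hy hy1 hs hs1 hsy hy hy1 hz hz1 (Ne.symm hyz) hw es hw hw' t3 t2

/-- **(0.6)** -/
theorem alpha_pair [Finite G] (h : One T V z) (hN : NT V) (hL : L ∈ lines V z) (hy : y ∈ V) (hy1 : y ≠ 1)
    (hyz : y ≠ z) (hq : q ∈ L) (hq1 : q ≠ 1) (hqz : q ≠ z) (hqE : q ∉ ee V z) (hyE : y ∉ ee L z) {u : G}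
    (hu : u ∈ ii V) (hu' : u ∈ ii L) (hu1 : u ≠ 1) (huz : u ≠ z) {q' : G} (hq' : q' ∈ ws V y)
    (htq : Tw V z q y q') : q' * q * q'⁻¹ = q ∨ q' * q * q'⁻¹ = z * q := by
  have hz := h.ln.z_mem
  have hz1 := h.ln.z_ne
  have hzz := h.ln.zz
  obtain ⟨-, -, T', h'⟩ := h.of_line hL hz1
  have hzL := h'.ln.z_mem
  have hNL := hN.of_lines hL
  have hs : z * y ∈ V := mul_mem hz hy
  have hs1 : z * y ≠ 1 := h.mul_ne_one hy (Ne.symm hyz)
  have hsz : z * y ≠ z := fun e' => hy1 (by simpa using e')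
  have hzy := h.ln.comm hz hy
  have hqW : q ∈ ws V z := by
    have := h'.V_le hzL hz1 hq
    rwa [ws_of_lines hL] at this
  have hqI : q ∉ ii V := fun hc => hqE (h.ii_le_ee hz hz1 hc)
  have hyI : y ∉ ii L := fun hc => hyE (h'.ii_le_ee hzL hz1 hc)
  have huV : u ∉ V := by
    intro hc
    rcases h.ln.four hz hy hz1 hy1 (Ne.symm hyz) hc with e1 | e1 | e1 | e1
    · exact hu1 e1
    · exact huz e1
    · exact hyI (e1 ▸ hu')
    · apply hyI
      have := mul_mem (h'.V_le_ii hzL) hu'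
      rw [e1, ← mul_assoc, hzz, one_mul] at this
      exact this
  have huL : u ∉ L := by
    intro hc
    rcases h'.ln.four hzL hq hz1 hq1 (Ne.symm hqz) hc with e1 | e1 | e1 | e1
    · exact hu1 e1
    · exact huz e1
    · exact hqI (e1 ▸ hu)
    · apply hqI
      have := mul_mem (h.V_le_ii hz) hu
      rw [e1, ← mul_assoc, hzz, one_mul] at this
      exact this
  obtain ⟨e, he, ey⟩ := h'.nt_move_ee hNL hq hq1 hzL hz1 (Ne.symm hqz)
    (by rw [ws_of_lines hL]; exact h.V_le hz hz1 hy) hyE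
  obtain ⟨g, hg, -, gq⟩ := h.nt_move_dd hN hz hz1 hqW (fun hc => hqE (h.dd_le_ee z hc))
  have S : Spr V L z y q e g :=
    ⟨hL, hy, hy1, hyz, hq, hq1, hqz, he, ey, fun p _ _ c hc => dd_comm_fl hc hg, gq⟩
  -- a mover `k ∈ K_s ∩ C(u)`
  obtain ⟨k, hk, hk1, hku⟩ := h.exists_mover_cent hu huV hs hs1
  have hkz : k * z * k⁻¹ = y := by
    rw [h.move hs hs1 hz hz1 (Ne.symm hsz) hk hk1, hzy, mul_assoc, hzz, mul_one]
  have hkJ : k ∈ centralizer ({u} : Set G) := mem_centralizer_singleton_iff.mpr hku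
  have hqN : q ∈ nu u z := h'.V_le_nu hu' huL hq
  have hbN : k * q * k⁻¹ ∈ nu u z := conj_mem_nu hkJ hqN
  have hbW : k * q * k⁻¹ ∈ ws V y := by
    have := conj_mem_ws k hqW
    rwa [hkz] at this
  set b := k * q * k⁻¹ with hbd
  have h3 := S.nu_comm h hN hu hu' huV hz hz1 hy hy1 hyz hqN hqW hbN hbW
  have huu : u * u = 1 := h.sqz u (hu z hz hz1)
  -- `q` and `b` commute
  have hqb : q * b = b * q := by
    rcases h3 with e1 | e1
    · calc q * b = (q * b * q⁻¹ * b⁻¹) * b * q := by group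
        _ = b * q := by rw [e1, one_mul]
    · exfalso
      -- `q^b = u q`
      have e2 : b * q * b⁻¹ = u * q := by
        have e3 : b * q * b⁻¹ = (q * b * q⁻¹ * b⁻¹)⁻¹ * q := by group
        rw [e3, e1, inv_eq_self huu]
      have hbz : b * z * b⁻¹ = z := conj_eq_of_comm (h.V_comm hz (h.ws_le_centralizer_V hy hy1 hbW)).symm
      have hL' : cj b L ∈ lines L z := by
        have := mem_lines_cj (g := b) (L := L) (V := L) (x := z) ⟨⟨1, (cj_one L).symm⟩, hzL⟩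
        rwa [hbz] at this
      have huq : u * q ∈ cj b L := by rw [← e2]; exact conj_mem_cj hq
      have huqI : u * q ∈ ii L := mul_mem hu' (h'.V_le_ii hq)
      have huqL : u * q ∉ L := fun hc => huL (by
        have := mul_mem hc (inv_mem hq)
        rwa [mul_inv_cancel_right] at this)
      obtain ⟨U, hU, hLU, huqU, -⟩ := h'.exists_plane huqI huqL ⟨_, hL', huq⟩
      have huU : u ∈ U := by
        have := mul_mem huqU (inv_mem (hLU hq))
        rwa [mul_inv_cancel_right] at this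
      obtain ⟨L3, hL3, huL3⟩ := hU.line z (hLU hzL) u huU hz1 hu1 (Ne.symm huz)
      obtain ⟨-, -, T3, h3'⟩ := h'.of_line hL3 hz1
      -- `N ≤ W_u`
      have hNle : nu u z ≤ ws L3 u := by
        refine (closure_le _).mpr ?_
        rintro _ ⟨c, hc, rfl⟩
        have h7 := conj_mem_ws c (h3'.V_le huL3 hu1 h3'.ln.z_mem)
        rwa [conj_eq_of_comm (mem_centralizer_singleton_iff.mp hc)] at h7
      have h8 := h3'.comm huL3 hu1 _ (hNle hqN) _ (hNle hbN)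
      rw [h8] at e1
      apply hu1
      rw [← e1]; group
  -- `q' = c b`, `c ∈ E_y`
  have t1 : Tw V z q y b := by
    have := h.tw_conj (kq_le_xl hs hs1 hk) z q
    rwa [hkz] at this
  have t2 : Tw V y q' y b := h.tw_trans (h.tw_symm htq) t1
  have t3 := (h.tw_self hy hy1 hq').mp t2
  have t4 := h.kq_cases hz (t3.2 z hz hz1) hqW
  have e1 : q' * q * q'⁻¹ = (q' * b⁻¹) * (b * q * b⁻¹) * (q' * b⁻¹)⁻¹ := by group
  rw [e1, conj_eq_of_comm hqb.symm]
  exact t4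

/-! ### in `M` -/

section M

variable {M H : Type u} [AddCommGroup M] [Group H] [DistribMulAction H M]

/-- `AL` at `v₀` -/
theorem AL_selfP [Finite G] (h : One T V z) (R : MRep V cg z M H) (hy : y ∈ V) (hy1 : y ≠ 1) (hyz : y ≠ z)
    (m : M) : AL R y (R.pi y) m = al0 R y m := by
  have := h.AL_eq R hy hy1 hyz (l := R.pi y) (x := 1) (one_smul _ _) m
  simpa using this

theorem mem_II_selfP [Finite G] (h : One T V z) (R : MRep V cg z M H) (hy : y ∈ V) (hy1 : y ≠ 1) (hyz : y ≠ z)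
    {u : M} : u ∈ II R y (R.pi y) ↔ u ∈ i0 R := by
  have := h.mem_II R hy hy1 hyz (l := R.pi y) (u := u) (x := 1) (one_smul _ _)
  simpa using this

/-- (0.6) at `v₀` -/
theorem m_alpha_pair₀ [Finite G] (h : One T V z) (hN : NT V) (R : MRep V cg z M H) (hy : y ∈ V) (hy1 : y ≠ 1)
    (hyz : y ≠ z) {m : M} (hm : m ∈ LL R y) (h1 : al0 R y m ≠ 1) (h2 : AL R y m (R.pi y) ≠ 1) {u : M}
    (hu : u ∈ i0 R) (hu' : u ∈ II R y m) (hu0 : u ≠ 0) : al0 R y m • m = m := by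
  have hz := h.ln.z_mem
  have hz1 := h.ln.z_ne
  obtain ⟨T', L, q, h', R', hL, hq, hq1, hqz, epi, ephi, eq, -, -, hII, hAL, -, -, -⟩ := h.base R hy hy1 hyz hm
  have hzL := h'.ln.z_mem
  have hqW : q ∈ ws V z := by
    have := h'.V_le hzL hz1 hq
    rwa [ws_of_lines hL] at this
  have hyW := h.V_le hz hz1 hy
  -- the pair
  have hqE : q ∉ ee V z := fun hc => h1 (by rw [← eq]; exact (h.al0_one R hy hy1 hyz hqW).mpr hc)
  have hyE : y ∉ ee L z := fun hc => h2 (by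
    rw [← hAL m hm]
    have e1 : m = R'.pi q := by rw [epi]; exact eq.symm
    have e2 : R.pi y = R'.pi y := by rw [epi]
    rw [e2, e1, h'.AL_selfP R' hq hq1 hqz]
    exact (h'.al0_one R' hq hq1 hqz (by rw [ws_of_lines hL]; exact hyW)).mpr hc)
  -- `u`
  obtain ⟨v, hv, rfl⟩ := (h.mem_i0 R).mp hu
  have hv1 : v ≠ 1 := by
    rintro rfl
    exact hu0 (h.rp_one R)
  have hvz : v ≠ z := by
    rintro rfl
    exact hu0 ((h.rp_zero R (h.V_le hz hz1 hz)).mpr (Or.inr rfl))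
  have hvL : v ∈ ii L := by
    rw [← hII m hm] at hu'
    have e1 : m = R'.pi q := by rw [epi]; exact eq.symm
    rw [e1, h'.mem_II_selfP R' hq hq1 hqz] at hu'
    obtain ⟨v', hv', e2⟩ := (h'.mem_i0 R').mp hu'
    rw [epi] at e2
    have hv'W : v' ∈ ws V z := by
      have := ii_le hzL hz1 hv'
      rwa [ws_of_lines hL] at this
    rcases (h.rp_eq R hv'W (ii_le hz hz1 hv)).mp e2 with e3 | e3
    · rw [← e3]; exact hv'
    · have e4 : v = z * v' := by rw [e3, ← mul_assoc, h.ln.zz, one_mul]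
      rw [e4]; exact mul_mem (h'.V_le_ii hzL) hv'
  obtain ⟨w, hw, b, hb, ew, ht, eb⟩ := h.exists_al0 R hy hy1 hyz m
  -- take `w = q`
  have ht' : Tw V z q y b := by
    rw [← eq] at ew
    rcases (h.rp_eq R hw hqW).mp ew with e3 | e3
    · rwa [e3] at ht
    · obtain ⟨g, hg, hgz, hg2⟩ := ht
      refine (h.tw_iff hz hz1 hqW hg hgz).mpr ?_
      have e4 : g * q * g⁻¹ * b⁻¹ = (g * z⁻¹ * g⁻¹) * (g * w * g⁻¹ * b⁻¹) := by rw [e3]; group
      rw [e4]
      refine mul_mem ?_ hg2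
      have e5 : g * z⁻¹ * g⁻¹ = (g * z * g⁻¹)⁻¹ := by group
      rw [e5, hgz]
      exact inv_mem (h.V_le_ee hy hy1 hy)
  have h3 := h.alpha_pair hN hL hy hy1 hyz hq hq1 hqz hqE hyE hv hvL hv1 hvz hb ht'
  rw [eb, ← eq, h.rp_act R (h.ws_le_cz hy hy1 hb) hqW]
  rcases h3 with e1 | e1
  · rw [e1]
  · rw [e1]; exact (h.rp_eq R (mul_mem (h.V_le hz hz1 hz) hqW) hqW).mpr (Or.inr rfl)

/-- **(0.6)** -/
theorem m_alpha_pair [Finite G] (h : One T V z) (hN : NT V) (R : MRep V cg z M H) (hy : y ∈ V) (hy1 : y ≠ 1)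
    (hyz : y ≠ z) {l m : M} (hl : l ∈ LL R y) (hm : m ∈ LL R y) (h1 : AL R y l m ≠ 1) (h2 : AL R y m l ≠ 1)
    {u : M} (hu : u ∈ II R y l) (hu' : u ∈ II R y m) (hu0 : u ≠ 0) : AL R y l m • m = m := by
  obtain ⟨T', L, q, h', R', hL, hq, hq1, hqz, epi, ephi, eq, hLL, -, hII, hAL, hNT, -, -⟩ := h.base R hy hy1 hyz hl
  have e1 : l = R'.pi q := by rw [epi]; exact eq.symm
  have hm' : m ∈ LL R' q := by rw [hLL]; exact hm
  rw [← hAL l hl] at h1 ⊢
  rw [← hAL m hm] at h2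
  rw [← hII l hl] at hu
  rw [← hII m hm] at hu'
  rw [e1, h'.AL_selfP R' hq hq1 hqz] at h1
  rw [e1, h'.AL_selfP R' hq hq1 hqz]
  rw [e1] at h2
  rw [e1, h'.mem_II_selfP R' hq hq1 hqz] at hu
  exact h'.m_alpha_pair₀ (hNT hN) R' hq hq1 hqz hm' h1 h2 hu hu' hu0

/-- (0.7) at `v₀` -/
theorem m_kappa₀ [Finite G] (h : One T V z) (hN : NT V) (R : MRep V cg z M H) (hy : y ∈ V) (hy1 : y ≠ 1)
    (hyz : y ≠ z) {m v : M} (hm : m ∈ LL R y) (h2 : AL R y m (R.pi y) ≠ 1)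
    (hf : AL R y m (al0 R y v • m + m) ≠ AL R y m (R.pi y)) (h3 : al0 R y v • v + v ≠ 0)
    (h4 : al0 R y v • v + v ≠ R.pi y) : ∃ u ∈ i0 R, u ∈ II R y m ∧ u ≠ 0 := by
  have hz := h.ln.z_mem
  have hz1 := h.ln.z_ne
  obtain ⟨T', L, q, h', R', hL, hq, hq1, hqz, epi, ephi, eq, -, -, hII, hAL, -, -, -⟩ := h.base R hy hy1 hyz hm
  have hzL := h'.ln.z_mem
  have hNL := hN.of_lines hL
  have hqW : q ∈ ws V z := by
    have := h'.V_le hzL hz1 hq
    rwa [ws_of_lines hL] at this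
  have hyW := h.V_le hz hz1 hy
  have e0 : m = R'.pi q := by rw [epi]; exact eq.symm
  have key : ∀ x ∈ ws V z, AL R y m (R.pi x) = 1 ↔ x ∈ ee L z := by
    intro x hx
    rw [← hAL m hm]
    have e2 : R.pi x = R'.pi x := by rw [epi]
    rw [e2, e0, h'.AL_selfP R' hq hq1 hqz]
    exact h'.al0_one R' hq hq1 hqz (by rw [ws_of_lines hL]; exact hx)
  have hyE : y ∉ ee L z := fun hc => h2 ((key y hyW).mpr hc)
  obtain ⟨w', hw', w, hw, ew, ht, eb⟩ := h.exists_al0 R hy hy1 hyz v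
  have hwz : w * z * w⁻¹ = z := conj_eq_of_comm (h.V_comm hz (h.ws_le_centralizer_V hy hy1 hw)).symm
  set c := w * q * w⁻¹ * q⁻¹ with hc
  have hwq : w * q * w⁻¹ ∈ ws V z := by
    have := conj_mem_ws w hqW
    rwa [hwz] at this
  have hcW : c ∈ ws V z := mul_mem hwq (inv_mem hqW)
  have hpc : al0 R y v • m + m = R.pi c := by
    rw [eb, ← eq]
    exact h.rp_comm R (h.ws_le_cz hy hy1 hw) hqW hwq
  rw [hpc] at hf
  -- `y c ∉ E_z(L)`
  have hycE : y * c ∉ ee L z := by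
    intro hc'
    apply hf
    have h5 := (key _ (mul_mem hyW hcW)).mpr hc'
    rw [h.rp_mul R hyW hcW, h.in_al_add R hy hy1 hyz hm] at h5
    have h6 : AL R y m (R.pi y) * AL R y m (R.pi y) = 1 := by
      have := h.in_sq R hy hy1 hyz hm (h.in_al_mem R hy hy1 hyz hm (R.pi y))
      exact this
    calc AL R y m (R.pi c) = AL R y m (R.pi y) * (AL R y m (R.pi y) * AL R y m (R.pi c)) := by
          rw [← mul_assoc, h6, one_mul]
      _ = AL R y m (R.pi y) := by rw [h5, mul_one]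
  have hyL : y ∈ ws L z := by rw [ws_of_lines hL]; exact hyW
  have hycL : y * c ∈ ws L z := by rw [ws_of_lines hL]; exact mul_mem hyW hcW
  obtain ⟨e, he, h5, h6⟩ := h'.nt_move_two hNL hq hq1 hqz hyL hyE hycL hycE
  have hekL : e ∈ kq L z := he.2 z hzL hz1
  have hek : e ∈ kq V z := by rw [← kq_of_lines hL]; exact hekL
  have ey : e * y * e⁻¹ = z * y := by
    rcases h.kq_cases hz hek hyW with e1 | e1
    · exact absurd (comm_of_conj_eq e1) h5
    · exact e1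
  have eyc : e * (y * c) * e⁻¹ = z * (y * c) := by
    rcases h.kq_cases hz hek (mul_mem hyW hcW) with e1 | e1
    · exact absurd (comm_of_conj_eq e1) h6
    · exact e1
  have hec : e * c * e⁻¹ = c := by
    have e1 : e * (y * c) * e⁻¹ = (e * y * e⁻¹) * (e * c * e⁻¹) := by group
    rw [e1, ey] at eyc
    have e2 : z * y * (e * c * e⁻¹) = z * y * c := by rw [eyc]; group
    exact mul_left_cancel e2
  have heq : e * q = q * e := h'.comm hq hq1 e he.1 q (h'.V_le hq hq1 hq)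
  have hew : e * (w * q * w⁻¹) = w * q * w⁻¹ * e := by
    have h7 := comm_mul_of (comm_of_conj_eq hec) heq
    have e1 : c * q = w * q * w⁻¹ := by rw [hc]; group
    rwa [e1] at h7
  obtain ⟨hu, hu'⟩ := h.kappa hL hy hy1 hyz hq hq1 hqz he ey hw hew
  have hub := h.kappa_beta hy hy1 hyz hek ey hw hw' (h.tw_symm ht)
  set u := ⁅w, e * w * e⁻¹⁆ with hud
  have hwV : ⁅w, w'⁆ ∉ V := by
    have hw'c : w * w' * w⁻¹ ∈ ws V z := by
      have := conj_mem_ws w hw'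
      rwa [hwz] at this
    have hp : al0 R y v • v + v = R.pi ⁅w, w'⁆ := by
      rw [eb, ← ew, commutatorElement_def]
      exact h.rp_comm R (h.ws_le_cz hy hy1 hw) hw' hw'c
    rw [hp] at h3 h4
    intro hc'
    rcases h.ln.four hz hy hz1 hy1 (Ne.symm hyz) hc' with e1 | e1 | e1 | e1
    · apply h3; rw [e1]; exact h.rp_one R
    · apply h3; rw [e1]; exact (h.rp_zero R (h.V_le hz hz1 hz)).mpr (Or.inr rfl)
    · apply h4; rw [e1]
    · apply h4; rw [e1]; exact (h.rp_eq R (mul_mem (h.V_le hz hz1 hz) hyW) hyW).mpr (Or.inr rfl)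
  have huV : u ∉ V := fun hc' => hwV (by
    have := mul_mem (inv_mem hub) hc'
    have e1 : (u * ⁅w, w'⁆⁻¹)⁻¹ * u = ⁅w, w'⁆ := by group
    rwa [e1] at this)
  refine ⟨R.pi u, (h.mem_i0 R).mpr ⟨u, hu, rfl⟩, ?_, ?_⟩
  · rw [← hII m hm, e0, h'.mem_II_selfP R' hq hq1 hqz]
    exact (h'.mem_i0 R').mpr ⟨u, hu', by rw [epi]⟩
  · intro h0
    rcases (h.rp_zero R (ii_le hz hz1 hu)).mp h0 with e1 | e1
    · exact huV (by rw [e1]; exact one_mem _)
    · exact huV (by rw [e1]; exact hz)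

/-- **(0.7)** -/
theorem m_kappa [Finite G] (h : One T V z) (hN : NT V) (R : MRep V cg z M H) (hy : y ∈ V) (hy1 : y ≠ 1)
    (hyz : y ≠ z) {l m v : M} (hl : l ∈ LL R y) (hm : m ∈ LL R y) (h2 : AL R y m l ≠ 1)
    (hf : AL R y m (AL R y l v • m + m) ≠ AL R y m l) (h3 : AL R y l v • v + v ≠ 0)
    (h4 : AL R y l v • v + v ≠ l) : ∃ u ∈ II R y l, u ∈ II R y m ∧ u ≠ 0 := by
  obtain ⟨T', L, q, h', R', hL, hq, hq1, hqz, epi, ephi, eq, hLL, -, hII, hAL, hNT, -, -⟩ := h.base R hy hy1 hyz hl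
  have e1 : l = R'.pi q := by rw [epi]; exact eq.symm
  have hm' : m ∈ LL R' q := by rw [hLL]; exact hm
  have e2 : AL R y l v = al0 R' q v := by
    rw [← hAL l hl, e1]; exact h'.AL_selfP R' hq hq1 hqz v
  rw [e2] at hf h3 h4
  rw [← hAL m hm, e1] at h2
  rw [← hAL m hm, ← hAL m hm, e1] at hf
  rw [e1] at h4
  obtain ⟨u, hu, hu', hu0⟩ := h'.m_kappa₀ (hNT hN) R' hq hq1 hqz hm' h2 hf h3 h4
  refine ⟨u, ?_, ?_, hu0⟩
  · rw [← hII l hl, e1, h'.mem_II_selfP R' hq hq1 hqz]; exact hu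
  · rw [← hII m hm]; exact hu'

/-- **(0.7)**, the field `kappa` of 885's abstract structure (#19539) -/
theorem m_kappa' [Finite G] (h : One T V z) (hN : NT V) (R : MRep V cg z M H) (hy : y ∈ V) (hy1 : y ≠ 1)
    (hyz : y ≠ z) {l m v : M} (hl : l ∈ LL R y) (hm : m ∈ LL R y) (h2 : AL R y m l ≠ 1)
    (h3 : AL R y l v • v + v ≠ 0) (h4 : AL R y l v • v + v ≠ l)
    (hf : AL R y m (AL R y l v • m + m + l) ≠ 1) : ∃ u, u ≠ 0 ∧ u ∈ II R y l ∧ u ∈ II R y m := by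
  obtain ⟨u, hu, hu', hu0⟩ := h.m_kappa hN R hy hy1 hyz hl hm h2 (v := v) (fun e1 => hf (by
    rw [h.in_al_add R hy hy1 hyz hm, e1]
    exact h.in_sq R hy hy1 hyz hm (h.in_al_mem R hy hy1 hyz hm l))) h3 h4
  exact ⟨u, hu0, hu, hu'⟩

end M

end One

end Cfsg.Agent.Omega.NO3S.TwoOne
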